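import Groth.Agent.WeilFin.Ops
import Groth.Agent.WeilFin.Slope
import Groth.Agent.VB5.MaxDestab
import Groth.Agent.SGA3cLib.CentralDescent
import Groth.Agent.AbVarLib.GeomIntegralSmooth

/-!
# Subquotients of degree zero of Weil finite bundles, closed under tensor products
-/

set_option autoImplicit false
set_option linter.style.haveILetI false
set_option linter.unusedSectionVars false
set_option backward.isDefEq.respectTransparency.types false
set_option maxHeartbeats 1000000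

universe u

open CategoryTheory CategoryTheory.Limits AlgebraicGeometry
open Groth.Agent.Coherent Groth.Agent.AmpleLib Groth.Agent.VB5 Groth.Agent.WeilFin

namespace Groth.Agent.WeilFin5

variable {X : Scheme.{u}}

theorem mono_twist {W : X.Modules} (hW : FlatMod.IsFinLocFree W) {A B : X.Modules} (i : A ⟶ B) [Mono i] :
    Mono (tensorMap i (𝟙 W)) := by
  haveI := VB5.preservesMono_twistF hW
  exact (SerreDual.twistF W).map_mono i

theorem epi_twist (W : X.Modules) {A B : X.Modules} (i : A ⟶ B) [Epi i] : Epi (tensorMap i (𝟙 W)) := by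
  haveI := (tensorHomAdj W).leftAdjoint_preservesColimits
  haveI : PreservesFiniteColimits (tensE W) := inferInstance
  haveI : PreservesFiniteColimits (SerreDual.twistF W) :=
    preservesFiniteColimits_of_natIso (SerreDual.twistTensIso W).symm
  exact (SerreDual.twistF W).map_epi i

/-- The tensor product of two maps, one factor after the other. -/
noncomputable def tmap {A B C D : X.Modules} (i : A ⟶ B) (j : C ⟶ D) :
    CohB1.tensorMod A C ⟶ CohB1.tensorMod B D :=
  tensorMap i (𝟙 C) ≫ (tensorComm B C).hom ≫ tensorMap j (𝟙 B) ≫ (tensorComm D B).hom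

theorem mono_tmap {A B C D : X.Modules} (i : A ⟶ B) (j : C ⟶ D) [Mono i] [Mono j]
    (hB : FlatMod.IsFinLocFree B) (hC : FlatMod.IsFinLocFree C) : Mono (tmap i j) := by
  haveI := mono_twist hC i
  haveI := mono_twist hB j
  exact mono_comp _ _

theorem epi_tmap {A B C D : X.Modules} (i : A ⟶ B) (j : C ⟶ D) [Epi i] [Epi j] : Epi (tmap i j) := by
  haveI := epi_twist C i
  haveI := epi_twist B j
  exact epi_comp _ _

variable [IsIntegral X] [IsLocallyNoetherian X]
  (k : Type u) [Field k] [X.Over (Spec (CommRingCat.of k))] [IsProper (X ↘ Spec (CommRingCat.of k))]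
  [Smooth (X ↘ Spec (CommRingCat.of k))] [GeometricallyIntegral (X ↘ Spec (CommRingCat.of k))]
  (hdim : topologicalKrullDim X = 1)
include k hdim

theorem isFinLocFree_of_epi_kernel {E Q : X.Modules} {r : ℕ} (hE : FlatMod.IsFinLocFreeOfRank r E) (p : E ⟶ Q)
    (hQ : Coh.IsQCoh Q) : FlatMod.IsFinLocFreeOfRank (grk (kernel p)) (kernel p) :=
  (sub_bundle hdim.le (VB5.isIntegrallyClosed_stalk k) hE (kernel.ι p)
    (Coherent.isCoh_kernel p (SplitP1.isCoh_of_rank hE) hQ)).2

/-- Every coherent submodule of a bounded bundle has nonpositive degree. -/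
theorem gdeg_nonpos {s : ℕ} {G : X.Modules} (hG : FlatMod.IsFinLocFreeOfRank s G) (hb : Bdd G) {P : X.Modules}
    (j : P ⟶ G) [Mono j] (hP : Coh.IsCoh P) : gdeg k P ≤ 0 := by
  have hn := VB5.isIntegrallyClosed_stalk k (X := X)
  rcases Nat.eq_zero_or_pos (grk P) with h0 | hpos
  · exact (zero_rank_sub k hdim hn hG j hP h0).2.le
  · exact gdeg_sub_nonpos k hdim (VB5.exists_rank_free hG) hb hpos (sub_bundle hdim.le hn hG j hP).2 j

/-- A degree zero subsheaf of a bounded bundle is a subbundle with semistable underlying bundle. -/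
theorem sub_facts {s s₁ : ℕ} {G F : X.Modules} (hG : FlatMod.IsFinLocFreeOfRank s G) (hb : Bdd G)
    (hF : FlatMod.IsFinLocFreeOfRank s₁ F) (i : F ⟶ G) [Mono i] (hd : gdeg k F = 0) :
    FlatMod.IsFinLocFree (cokernel i) ∧ ModFun.IsSlopeSemistable k X F s₁ := by
  refine ⟨VB5.exists_rank_free (bundle_cokernel_of_max k hdim (VB5.isIntegrallyClosed_stalk k) hG i
    (SplitP1.isCoh_of_rank hF) fun P j hj hP _ => ?_), fun P r' j hj _ hP => ?_⟩
  · haveI := hj
    rw [hd]
    exact gdeg_nonpos k hdim hG hb j hP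
  · haveI := hj
    rw [deg_eq_gdeg k hP, deg_eq_gdeg k hF, hd, zero_mul]
    haveI : Mono (j ≫ i) := mono_comp _ _
    exact mul_nonpos_of_nonpos_of_nonneg (gdeg_nonpos k hdim hG hb (j ≫ i) (SplitP1.isCoh_of_rank hP))
      (Int.natCast_nonneg _)

/-- Tensor products of degree zero subquotients of bounded bundles. -/
theorem main {s s' a a' r r' : ℕ} {G G' A A' E E' : X.Modules}
    (hG : FlatMod.IsFinLocFreeOfRank s G) (hG' : FlatMod.IsFinLocFreeOfRank s' G') (hb : Bdd G) (hb' : Bdd G')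
    (hA : FlatMod.IsFinLocFreeOfRank a A) (hA' : FlatMod.IsFinLocFreeOfRank a' A')
    (i : A ⟶ G) (i' : A' ⟶ G') [Mono i] [Mono i'] (hdA : gdeg k A = 0) (hdA' : gdeg k A' = 0)
    (hE : FlatMod.IsFinLocFreeOfRank r E) (hE' : FlatMod.IsFinLocFreeOfRank r' E')
    (p : A ⟶ E) (p' : A' ⟶ E') [Epi p] [Epi p'] (hdE : gdeg k E = 0) (hdE' : gdeg k E' = 0) :
    (Curv2.deg k X (CohB1.tensorMod E E') (r * r') = 0 ∧ ModFun.IsSlopeSemistable k X (CohB1.tensorMod E E') (r * r')) ∧
      ∃ (F₂ : X.Modules) (s₂ : ℕ) (i₂ : F₂ ⟶ CohB1.tensorMod A A'),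
        FlatMod.IsFinLocFreeOfRank s₂ F₂ ∧ Mono i₂ ∧ FlatMod.IsFinLocFree (cokernel i₂) ∧
        FlatMod.IsFinLocFree (cokernel (tmap i i')) ∧ Mono (tmap i i') ∧
        Curv2.deg k X (CohB1.tensorMod A A') (a * a') = 0 ∧
        ModFun.IsSlopeSemistable k X (CohB1.tensorMod A A') (a * a') ∧
        Curv2.deg k X F₂ s₂ = 0 ∧ ModFun.IsSlopeSemistable k X F₂ s₂ ∧
        Nonempty (CohB1.tensorMod E E' ≅ cokernel i₂) := by
  haveI := EulerLib.isNoetherian_of_proper k (X := X)
  have hGG : FlatMod.IsFinLocFreeOfRank (s * s') (CohB1.tensorMod G G') :=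
    CycLib28.PB.Ops.isFinLocFreeOfRank_tensor hG hG'
  have hAA : FlatMod.IsFinLocFreeOfRank (a * a') (CohB1.tensorMod A A') :=
    CycLib28.PB.Ops.isFinLocFreeOfRank_tensor hA hA'
  have hEE : FlatMod.IsFinLocFreeOfRank (r * r') (CohB1.tensorMod E E') :=
    CycLib28.PB.Ops.isFinLocFreeOfRank_tensor hE hE'
  have hdeg : ∀ {n m : ℕ} {U V : X.Modules}, FlatMod.IsFinLocFreeOfRank n U → FlatMod.IsFinLocFreeOfRank m V →
      gdeg k U = 0 → gdeg k V = 0 → Curv2.deg k X (CohB1.tensorMod U V) (n * m) = 0 := by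
    intro n m U V hU hV hdU hdV
    rw [VarietyLib.deg_tensor_rank k hdim.le hU hV, deg_eq_gdeg k hU, deg_eq_gdeg k hV, hdU, hdV]
    ring
  have hbb : Bdd (CohB1.tensorMod G G') := hb.tensor hb'
  haveI := mono_tmap i i' (VB5.exists_rank_free hG) (VB5.exists_rank_free hA')
  haveI := epi_tmap p p'
  let π := tmap p p'
  have hEEc := SplitP1.isCoh_of_rank hEE
  have hAAc := SplitP1.isCoh_of_rank hAA
  have hF₂ := isFinLocFree_of_epi_kernel k hdim hAA π hEEc.1
  have hdAA : gdeg k (CohB1.tensorMod A A') = 0 := (deg_eq_gdeg k hAA).symm.trans (hdeg hA hA' hdA hdA')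
  have hdEE : gdeg k (CohB1.tensorMod E E') = 0 := (deg_eq_gdeg k hEE).symm.trans (hdeg hE hE' hdE hdE')
  have hKc := Coherent.isCoh_kernel π hAAc hEEc.1
  have hd₂ : gdeg k (kernel π) = 0 := by
    have h := gdeg_additive k (EulerLib.shortExact_kernel π) hKc hAAc hEEc
    change gdeg k (CohB1.tensorMod A A') = gdeg k (kernel π) + gdeg k (CohB1.tensorMod E E') at h
    omega
  obtain ⟨hc₁, hs₁⟩ := sub_facts k hdim hGG hbb hAA (tmap i i') hdAA
  obtain ⟨-, hs₂⟩ := sub_facts k hdim hGG hbb hF₂ (kernel.ι π ≫ tmap i i') hd₂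
  let e : cokernel (kernel.ι π) ≅ CohB1.tensorMod E E' :=
    (cokernelIsCokernel (kernel.ι π)).coconePointUniqueUpToIso (Abelian.epiIsCokernelOfKernel _ (limit.isLimit _))
  refine ⟨⟨hdeg hE hE' hdE hdE', fun P r₁ j hj _ hP => ?_⟩, kernel π, grk (kernel π), kernel.ι π, hF₂, inferInstance,
    (fun x => by
      obtain ⟨U, hxU, ⟨eU⟩⟩ := hEE x
      exact ⟨U, _, hxU, ⟨(Scheme.Modules.restrictFunctor U.ι).mapIso e ≪≫ eU⟩⟩), hc₁, inferInstance, hdeg hA hA' hdA hdA',
    hs₁, (deg_eq_gdeg k hF₂).trans hd₂, hs₂, ⟨e.symm⟩⟩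
  haveI := hj
  obtain ⟨P', j', hj', hP', -, hd'⟩ := exists_preimage_sub k (EulerLib.shortExact_kernel π) hKc hAAc hEEc j
    (SplitP1.isCoh_of_rank hP)
  haveI := hj'
  haveI : Mono (j' ≫ tmap i i') := mono_comp _ _
  change gdeg k P' = gdeg k (kernel π) + gdeg k P at hd'
  have h := gdeg_nonpos k hdim hGG hbb (j' ≫ tmap i i') hP'
  rw [deg_eq_gdeg k hP, deg_eq_gdeg k hEE, hdEE, zero_mul]
  exact mul_nonpos_of_nonpos_of_nonneg (by omega) (Int.natCast_nonneg _)

end Groth.Agent.WeilFin5
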